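import Mathlib

/-! # Subfields of the fraction field of power series with restricted coefficients -/

set_option autoImplicit false
set_option linter.style.haveILetI false
universe u

namespace Groth.Agent.PSSubfield4

open MvPowerSeries

variable {k : Type u} [Field k] {r : ℕ}

/-- The power series with coefficients in a subfield. -/
def coeffSubring (F : Subfield k) : Subring (MvPowerSeries (Fin r) k) where
  carrier := {f | ∀ n, coeff n f ∈ F}
  mul_mem' := fun {a b} ha hb n => by
    classical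
    rw [coeff_mul]
    exact sum_mem fun x _ => mul_mem (ha _) (hb _)
  one_mem' := fun n => by
    classical
    rw [coeff_one]
    split_ifs
    · exact one_mem F
    · exact zero_mem F
  add_mem' := fun {a b} ha hb n => by rw [map_add]; exact add_mem (ha n) (hb n)
  zero_mem' := fun n => by rw [map_zero]; exact zero_mem F
  neg_mem' := fun {a} ha n => by rw [map_neg]; exact neg_mem (ha n)

theorem mem_closure_iff (F : Subfield k) (z : FractionRing (MvPowerSeries (Fin r) k)) :
    z ∈ Subfield.closure (algebraMap (MvPowerSeries (Fin r) k) (FractionRing (MvPowerSeries (Fin r) k)) ''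
        {f | ∀ n, coeff n f ∈ F}) ↔
      ∃ u v : MvPowerSeries (Fin r) k, (∀ n, coeff n u ∈ F) ∧ (∀ n, coeff n v ∈ F) ∧
        z = algebraMap _ _ u / algebraMap _ _ v := by
  refine ⟨fun hz => ?_, ?_⟩
  · rw [show {f : MvPowerSeries (Fin r) k | ∀ n, coeff n f ∈ F} = ((coeffSubring (r := r) F : Subring (MvPowerSeries (Fin r) k)) : Set (MvPowerSeries (Fin r) k)) from rfl,
      ← Subring.coe_map] at hz
    obtain ⟨x, hx, y, hy, rfl⟩ := Subfield.mem_closure_iff.1 hz
    rw [Subring.closure_eq] at hx hy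
    obtain ⟨u, hu, rfl⟩ := hx
    obtain ⟨v, hv, rfl⟩ := hy
    exact ⟨u, v, hu, hv, rfl⟩
  · rintro ⟨u, v, hu, hv, rfl⟩
    exact div_mem (Subfield.subset_closure ⟨u, hu, rfl⟩) (Subfield.subset_closure ⟨v, hv, rfl⟩)

/-- Division in the subring of restricted coefficients. -/
theorem mem_of_mul_eq (F : Subfield k) {f u v : MvPowerSeries (Fin r) k} (hv0 : v ≠ 0)
    (hu : ∀ n, coeff n u ∈ F) (hv : ∀ n, coeff n v ∈ F) (h : f * v = u) (n : Fin r →₀ ℕ) : coeff n f ∈ F := by
  classical
  by_contra hn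
  have h1 : coeff n f ∉ Submodule.span F {(1 : k)} := fun h => hn (by
    obtain ⟨c, hc⟩ := Submodule.mem_span_singleton.1 h
    rw [← hc, Subfield.smul_def, smul_eq_mul, mul_one]
    exact c.2)
  obtain ⟨ℓ, hℓx, hℓ1⟩ := Submodule.exists_dual_map_eq_bot_of_notMem h1 inferInstance
  have hℓF : ∀ c : k, c ∈ F → ℓ c = 0 := fun c hc =>
    (Submodule.mem_bot F).1 (hℓ1 ▸ Submodule.mem_map_of_mem (Submodule.mem_span_singleton.2 ⟨⟨c, hc⟩, mul_one c⟩))
  have hmul : ∀ (a c : k), c ∈ F → (ℓ (a * c) : k) = (ℓ a : k) * c := fun a c hc => by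
    rw [mul_comm a c, show c * a = (⟨c, hc⟩ : F) • a from rfl, map_smul, smul_eq_mul, Subfield.coe_mul, mul_comm]
  let g : MvPowerSeries (Fin r) k := fun m => (ℓ (coeff m f) : k)
  have hg : ∀ m, coeff m g = (ℓ (coeff m f) : k) := fun m => rfl
  have hgv : g * v = 0 := MvPowerSeries.ext fun m => by
    rw [map_zero, coeff_mul]
    calc ∑ x ∈ Finset.HasAntidiagonal.antidiagonal m, coeff x.1 g * coeff x.2 v
        = ((ℓ (coeff m u) : F) : k) := by
          rw [← h, coeff_mul, map_sum, AddSubmonoidClass.coe_finsetSum]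
          exact Finset.sum_congr rfl fun x _ => by rw [hg, hmul _ _ (hv _)]
      _ = 0 := by rw [hℓF _ (hu m)]; rfl
  have hg0 : g = 0 := (mul_eq_zero.1 hgv).resolve_right hv0
  exact hℓx (Subtype.ext ((hg n).symm.trans (by rw [hg0, map_zero]; rfl)))

theorem coeff_pow_mem (F : Subfield k) (e : ℕ) (hq : ∀ x : k, x ^ ringExpChar k ^ e ∈ F)
    (b : MvPowerSeries (Fin r) k) (n : Fin r →₀ ℕ) : coeff n (b ^ ringExpChar k ^ e) ∈ F := by
  rcases expChar_is_prime_or_one k (ringExpChar k) with hp | h1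
  · set p := ringExpChar k
    haveI : Fact p.Prime := ⟨hp⟩
    haveI : ExpChar k p := ringExpChar.expChar k
    rw [← MvPowerSeries.map_iterateFrobenius_expand p hp.ne_zero, MvPowerSeries.coeff_map, iterateFrobenius_def]
    exact hq _
  · rw [h1, one_pow] at hq
    simpa [h1] using hq (coeff n b)

end Groth.Agent.PSSubfield4
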