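import Groth.Agent.Lib.CplDomain.Deriv
import Groth.Agent.Lib.NagJac3.Stage
import Mathlib

/-! # Power series are free over the series killed by finitely many derivations -/

set_option autoImplicit false
set_option linter.style.haveILetI false
universe u

namespace Groth.Agent.PSSubfield4

open MvPowerSeries CplDomain

variable {k : Type u} [Field k] {n : ℕ} {ι : Type u} (δ : ι → Derivation ℤ k k) (p : ℕ) [Fact p.Prime] [CharP k p]

/-- The constants of finitely many derivations. -/
def kerField (T : Finset ι) : Subfield k where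
  carrier := {x | ∀ i ∈ T, δ i x = 0}
  mul_mem' := fun {a b} ha hb i hi => by rw [(δ i).leibniz, ha i hi, hb i hi, smul_zero, smul_zero, add_zero]
  one_mem' := fun i _ => (δ i).map_one_eq_zero
  add_mem' := fun {a b} ha hb i hi => by rw [map_add, ha i hi, hb i hi, add_zero]
  zero_mem' := fun i _ => map_zero _
  neg_mem' := fun {a} ha i hi => by rw [map_neg, ha i hi, neg_zero]
  inv_mem' := fun a ha i hi => by rw [Derivation.leibniz_inv, ha i hi, smul_zero]

include p in
theorem free_finite_killed (hfin : ∀ T : Finset ι, ∃ (m : ℕ) (e : Fin m → k), ∀ x : k, ∃ c : Fin m → k,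
      (∀ j, ∀ i ∈ T, δ i (c j) = 0) ∧ ∑ j, c j * e j = x) (T : Finset ι) :
    Module.Free (killed (n := n) δ T) (MvPowerSeries (Fin n) k) ∧
      Module.Finite (killed (n := n) δ T) (MvPowerSeries (Fin n) k) := by
  classical
  have hp0 : 0 < p := (Fact.out : p.Prime).pos
  haveI : Module.Finite (kerField δ T) k := by
    obtain ⟨m, e, he⟩ := hfin T
    refine ⟨Submodule.fg_def.2 ⟨Set.range e, Set.finite_range e, eq_top_iff.2 fun x _ => ?_⟩⟩
    obtain ⟨c, hc, hcs⟩ := he x
    rw [← hcs]
    exact sum_mem fun j _ => Submodule.smul_mem _ (⟨c j, fun i hi => hc j i hi⟩ : kerField δ T) (Submodule.subset_span ⟨j, rfl⟩)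
  let b := Module.finBasis (kerField δ T) k
  let J := Fin n → Fin p
  let toF : J → (Fin n →₀ ℕ) := fun J => Finsupp.equivFunOnFinite.symm fun i => (J i : ℕ)
  have hdiv : ∀ (g : killed (n := n) δ T) (I : Fin n →₀ ℕ), coeff I (g : MvPowerSeries (Fin n) k) ∈ kerField δ T :=
    fun g I i hi => by rw [← coeff_coeffDer, g.2.2 i hi, map_zero]
  have hcoeff : ∀ (g : killed (n := n) δ T) (J' : J) (a : k) (I : Fin n →₀ ℕ), (∀ i, p ∣ I i) → ∀ J0 : J,
      coeff (I + toF J0) ((g : MvPowerSeries (Fin n) k) * monomial (toF J') a) =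
        if J' = J0 then coeff I (g : MvPowerSeries (Fin n) k) * a else 0 := fun g J' a I hI J0 => by
    rw [coeff_mul_monomial]
    by_cases he : J' = J0
    · subst he
      rw [if_pos (le_add_self), if_pos rfl, add_tsub_cancel_right]
    · rw [if_neg he]
      split_ifs with hle
      · have hne : ∃ i, ¬ p ∣ (I + toF J0 - toF J') i := by
          by_contra hcon
          push Not at hcon
          refine he (funext fun i => Fin.ext ?_)
          obtain ⟨q, hq⟩ := hcon i
          obtain ⟨q', hq'⟩ := hI i
          have h2 := hle i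
          simp only [Finsupp.coe_tsub, Finsupp.coe_add, Pi.sub_apply, Pi.add_apply, toF,
            Finsupp.coe_equivFunOnFinite_symm] at hq h2
          rw [hq'] at hq h2
          have h3 : ((J' i : ℕ) + p * q) % p = ((J0 i : ℕ) + p * q') % p := congrArg (· % p) (by omega)
          rwa [Nat.add_mul_mod_self_left, Nat.add_mul_mod_self_left, Nat.mod_eq_of_lt (J' i).2,
            Nat.mod_eq_of_lt (J0 i).2] at h3
        obtain ⟨i, hi⟩ := hne
        rw [coeff_eq_zero_of_pderiv p g.2.1 _ i hi, zero_mul]
      · rfl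
  let v : J × Fin (Module.finrank (kerField δ T) k) → MvPowerSeries (Fin n) k := fun x => monomial (toF x.1) (b x.2)
  have hcv : ∀ (g : J × Fin (Module.finrank (kerField δ T) k) → killed (n := n) δ T) (I : Fin n →₀ ℕ),
      (∀ i, p ∣ I i) → ∀ J0 : J,
      coeff (I + toF J0) (∑ x, (g x : MvPowerSeries (Fin n) k) * v x) =
        ∑ j, coeff I (g (J0, j) : MvPowerSeries (Fin n) k) * b j := fun g I hI J0 => by
    rw [map_sum, Fintype.sum_prod_type, Finset.sum_eq_single J0]
    · exact Finset.sum_congr rfl fun j _ => by rw [hcoeff _ _ _ _ hI, if_pos rfl]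
    · exact fun J' _ hne => Finset.sum_eq_zero fun j _ => by rw [hcoeff _ _ _ _ hI, if_neg hne]
    · simp
  have hli : LinearIndependent (killed (n := n) δ T) v := by
    refine Fintype.linearIndependent_iff.2 fun g hg x => Subtype.ext (MvPowerSeries.ext fun I => ?_)
    rw [ZeroMemClass.coe_zero, map_zero]
    by_cases hI : ∀ i, p ∣ I i
    · have h1 := hcv g I hI x.1
      rw [show ∑ x, (g x : MvPowerSeries (Fin n) k) * v x = 0 from hg, map_zero] at h1
      have h2 := Fintype.linearIndependent_iff.1 b.linearIndependent (fun j => ⟨_, hdiv (g (x.1, j)) I⟩) h1.symm x.2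
      exact congrArg Subtype.val h2
    · push Not at hI
      obtain ⟨i, hi⟩ := hI
      exact coeff_eq_zero_of_pderiv p (g x).2.1 I i hi
  have hspan : Submodule.span (killed (n := n) δ T) (Set.range v) = ⊤ := by
    refine eq_top_iff.2 fun f _ => (Submodule.mem_span_range_iff_exists_fun _).2 ?_
    let G : J × Fin (Module.finrank (kerField δ T) k) → MvPowerSeries (Fin n) k := fun x I =>
      if ∀ i, p ∣ I i then ((b.repr (coeff (I + toF x.1) f) x.2 : kerField δ T) : k) else 0
    have hG : ∀ x I, coeff I (G x) = if ∀ i, p ∣ I i then ((b.repr (coeff (I + toF x.1) f) x.2 : kerField δ T) : k) else 0 :=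
      fun x I => rfl
    have hGk : ∀ x, G x ∈ killed (n := n) δ T := fun x =>
      ⟨fun j => pderiv_eq_zero_of_dvd p (fun I i hi => by rw [hG, if_neg fun h => hi (h i)]) j,
        fun i hi => MvPowerSeries.ext fun I => by
          rw [coeff_coeffDer, map_zero, hG]
          split_ifs
          · exact (b.repr (coeff (I + toF x.1) f) x.2).2 i hi
          · exact map_zero _⟩
    refine ⟨fun x => ⟨G x, hGk x⟩, MvPowerSeries.ext fun I => ?_⟩
    let J0 : J := fun i => ⟨I i % p, Nat.mod_lt _ hp0⟩
    have hJ0 : toF J0 ≤ I := fun i => by simp [toF, J0, Nat.mod_le]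
    have hdvd : ∀ i, p ∣ (I - toF J0) i := fun i => by
      simp only [Finsupp.coe_tsub, Pi.sub_apply, toF, J0, Finsupp.coe_equivFunOnFinite_symm]
      exact Nat.dvd_sub_mod _
    have h1 := hcv (fun x => ⟨G x, hGk x⟩) _ hdvd J0
    rw [tsub_add_cancel_of_le hJ0] at h1
    refine h1.trans (Eq.trans (Finset.sum_congr rfl fun j _ => ?_) (b.sum_repr (coeff I f)))
    rw [hG, if_pos hdvd, tsub_add_cancel_of_le hJ0]
    rfl
  let B := Module.Basis.mk hli hspan.ge
  exact ⟨Module.Free.of_basis B, Module.Finite.of_basis B⟩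

theorem isNoetherianRing_of_free {S A : Type u} [CommRing S] [CommRing A] [Algebra S A] [IsNoetherianRing A]
    [Nontrivial A] [Module.Free S A] : IsNoetherianRing S := by
  haveI : Module.FaithfullyFlat S A := inferInstance
  rw [isNoetherianRing_iff, isNoetherian_iff']
  exact StrictMono.wellFoundedGT (f := fun I : Ideal S => I.map (algebraMap S A)) fun I J hIJ =>
    lt_of_le_of_ne (Ideal.map_mono hIJ.le) fun h => hIJ.ne (by
      rw [← Ideal.comap_map_eq_self_of_faithfullyFlat (B := A) I]
      exact (congrArg (Ideal.comap (algebraMap S A)) h).trans (Ideal.comap_map_eq_self_of_faithfullyFlat J))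

end Groth.Agent.PSSubfield4
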